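import Groth.Agent.DCohLib.StalkTensor
import Groth.Agent.ParaFLib.Stalk
import Groth.Agent.AmpleEmb.Inverse
import Groth.Agent.AmpleLib.Pullback
import Groth.Prelude.Def_RefHull

/-!
# The dual of an invertible module is its inverse
-/

set_option autoImplicit false
set_option backward.isDefEq.respectTransparency false

universe u

open CategoryTheory CategoryTheory.Limits AlgebraicGeometry TopologicalSpace Opposite
open Groth.Agent.DCohLib Groth.Agent.PullbackMod
open scoped TensorProduct

noncomputable section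

namespace Groth.Agent.DualInvLib

variable {X : Scheme.{u}} {L M : X.Modules} (θ : tmod L M ⟶ Coh.structureModule X)

/-- The functional given by a germ of `M`. -/
def funAt (x : X) (μ : M.presheaf.stalk x) : RefHull.StalkHom L (Coh.structureModule X) x :=
  (stalkLin θ x).comp ((stalkTensor x L M).toLinearMap.comp ((TensorProduct.mk _ _ _).flip μ))

theorem funAt_apply (x : X) (μ : M.presheaf.stalk x) (l : L.presheaf.stalk x) :
    funAt θ x μ l = stalkLin θ x (stalkTensor x L M (l ⊗ₜ μ)) := rfl

theorem isLocSect (U : X.Opens) (m : Γ(M, U)) :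
    RefHull.IsLocSect L (Coh.structureModule X) fun x : U => funAt θ x.1 (M.presheaf.germ U x.1 x.2 m) := by
  intro V i l x
  refine ⟨V, x.2, 𝟙 V, θ.app V (pairS L M l (M.presheaf.map (homOfLE i.le).op m)), fun y => ?_⟩
  rw [funAt_apply, ← TopCat.Presheaf.germ_res_apply M.presheaf (homOfLE i.le) y.1 y.2]
  show stalkLin θ y.1 (stalkTensorHom y.1 _) = _
  erw [stalkTensorHom_tmul, stalkLin_germ]

/-- `M → L^∨`. -/
def toDual : M ⟶ RefHull.dual L :=
  SheafOfModules.Hom.mk <| PresheafOfModules.homMk
    { app := fun U => AddCommGrpCat.ofHom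
        { toFun := fun m => (⟨fun x => funAt θ x.1 (M.presheaf.germ U.unop x.1 x.2 m), isLocSect θ U.unop m⟩ :
            Γ(RefHull.dual L, U.unop))
          map_zero' := Subtype.ext (funext fun x => LinearMap.ext fun l => by
            show funAt θ x.1 (M.presheaf.germ U.unop x.1 x.2 0) l = 0
            rw [map_zero, funAt_apply, TensorProduct.tmul_zero, map_zero, map_zero])
          map_add' := fun m m' => Subtype.ext (funext fun x => LinearMap.ext fun l => by
            show funAt θ x.1 (M.presheaf.germ U.unop x.1 x.2 (m + m')) l = funAt θ x.1 _ l + funAt θ x.1 _ l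
            rw [map_add, funAt_apply, TensorProduct.tmul_add, map_add, map_add]
            rfl) }
      naturality := fun U V i => by
        ext m
        refine Subtype.ext (funext fun x => ?_)
        exact congrArg (funAt θ x.1) (TopCat.Presheaf.germ_res_apply M.presheaf i.unop x.1 x.2 m) }
    (fun U r m => Subtype.ext (funext fun x => LinearMap.ext fun l => by
      show funAt θ x.1 (M.presheaf.germ U.unop x.1 x.2 (r • m)) l =
        X.presheaf.germ U.unop x.1 x.2 r • funAt θ x.1 (M.presheaf.germ U.unop x.1 x.2 m) l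
      refine (congrArg (fun v => funAt θ x.1 v l) (ParaFLib.germ_smul' x.1 x.2 r m)).trans ?_
      rw [funAt_apply, funAt_apply, TensorProduct.tmul_smul, map_smul, map_smul]))

theorem eval_toDual (x : X) (μ : M.presheaf.stalk x) :
    RefHull.evalStalk L (Coh.structureModule X) x (stalkLin (toDual θ) x μ) = funAt θ x μ := by
  obtain ⟨U, hx, m, rfl⟩ := TopCat.Presheaf.exists_germ_eq M.presheaf μ
  rw [stalkLin_germ, RefHull.evalStalk_germ]
  rfl

theorem evalStalk_injective (hL : PicF.IsInvertible L) (x : X) :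
    Function.Injective (RefHull.evalStalk L (Coh.structureModule X) x) := by
  refine (injective_iff_map_eq_zero _).2 fun t ht => ?_
  obtain ⟨U, hx, g, rfl⟩ := TopCat.Presheaf.exists_germ_eq (RefHull.dual L).presheaf t
  rw [RefHull.evalStalk_germ] at ht
  obtain ⟨W, e, hxW, he⟩ := ParaFLib.exists_gen_nhd hL x
  obtain ⟨W', hxW', j, n, hn⟩ := g.2 (U ⊓ W) (homOfLE inf_le_left) (L.presheaf.map (homOfLE inf_le_right).op e) ⟨x, hx, hxW⟩
  have h0 := hn ⟨x, hxW'⟩
  rw [show (g.1 ⟨x, hx⟩ : RefHull.StalkHom L (Coh.structureModule X) x) = 0 from ht, LinearMap.zero_apply] at h0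
  obtain ⟨V, hxV, i1, i2, hV⟩ := TopCat.Presheaf.germ_eq (Coh.structureModule X).presheaf x hxW' hxW' n 0
    (h0.symm.trans (map_zero _).symm)
  have hVU : V ≤ U := i1.le.trans (j.le.trans inf_le_left)
  have hVW : V ≤ W := i1.le.trans (j.le.trans inf_le_right)
  have hres : (RefHull.dual L).presheaf.map (homOfLE hVU).op g = 0 := by
    refine Subtype.ext (funext fun y => ?_)
    show g.1 ⟨y.1, hVU y.2⟩ = 0
    refine LinearMap.ext fun l => ?_
    obtain ⟨r, rfl⟩ := (he.bijective_germ y.1 (hVW y.2)).2 l
    rw [map_smul, LinearMap.zero_apply, show L.presheaf.germ W y.1 (hVW y.2) e =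
      L.presheaf.germ (U ⊓ W) y.1 ⟨hVU y.2, hVW y.2⟩ (L.presheaf.map (homOfLE inf_le_right).op e) from
        (TopCat.Presheaf.germ_res_apply _ _ _ _ _).symm, hn ⟨y.1, i1.le y.2⟩,
      ← TopCat.Presheaf.germ_res_apply (Coh.structureModule X).presheaf i1 y.1 y.2 n, hV, map_zero, map_zero, smul_zero]
  rw [← TopCat.Presheaf.germ_res_apply (RefHull.dual L).presheaf (homOfLE hVU) x hxV g, hres, map_zero]

theorem isIso_toDual (hL : PicF.IsInvertible L) [IsIso θ] : IsIso (toDual θ) := by
  refine (isIso_iff_stalk _).2 fun x => ?_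
  obtain ⟨e, he⟩ := ParaFLib.exists_stalk_gen hL x
  let E := LinearEquiv.ofBijective (LinearMap.toSpanSingleton (X.presheaf.stalk x) _ e) he
  have hθ := (isIso_iff_stalk θ).1 inferInstance x
  have hb : Function.Bijective fun μ => funAt θ x μ := by
    refine ⟨fun μ ν h => ?_, fun f => ?_⟩
    · have h0 : funAt θ x μ e = funAt θ x ν e := LinearMap.congr_fun h e
      rw [funAt_apply, funAt_apply] at h0
      have h1 := (stalkTensor x L M).injective (hθ.1 h0)
      have h2 := congrArg (((TensorProduct.congr E.symm (LinearEquiv.refl (X.presheaf.stalk x) (M.presheaf.stalk x))).trans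
        (TensorProduct.lid (X.presheaf.stalk x) (M.presheaf.stalk x)))) h1
      have he1 : E.symm e = 1 := E.injective (by rw [E.apply_symm_apply]; exact (one_smul (X.presheaf.stalk x) e).symm)
      simpa [he1] using h2
    · obtain ⟨z, hz⟩ := hθ.2 (f e)
      obtain ⟨w, rfl⟩ := (stalkTensor x L M).surjective z
      have : ∃ μ, e ⊗ₜ[X.presheaf.stalk x] μ = w := by
        clear hz
        induction w using TensorProduct.induction_on with
        | zero => exact ⟨0, TensorProduct.tmul_zero _ _⟩
        | tmul a b =>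
          obtain ⟨r, rfl⟩ := he.2 a
          exact ⟨r • b, by rw [TensorProduct.tmul_smul, TensorProduct.smul_tmul']⟩
        | add p q hp hq =>
          obtain ⟨P, hP⟩ := hp
          obtain ⟨Q, hQ⟩ := hq
          exact ⟨P + Q, by rw [TensorProduct.tmul_add, hP, hQ]⟩
      obtain ⟨μ, rfl⟩ := this
      refine ⟨μ, LinearMap.ext fun l => ?_⟩
      obtain ⟨r, rfl⟩ := he.2 l
      show funAt θ x μ (r • e) = f (r • e)
      rw [map_smul, map_smul, ← hz]
      rfl
  have hcomp : (RefHull.evalStalk L (Coh.structureModule X) x) ∘ (stalkLin (toDual θ) x) = fun μ => funAt θ x μ :=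
    funext fun μ => eval_toDual θ x μ
  refine ⟨fun a b h => hb.1 (show funAt θ x a = funAt θ x b by
    rw [← eval_toDual, ← eval_toDual, h]), fun t => ?_⟩
  obtain ⟨μ, hμ⟩ := hb.2 (RefHull.evalStalk L (Coh.structureModule X) x t)
  exact ⟨μ, evalStalk_injective hL x (by rw [eval_toDual]; exact hμ)⟩

/-- The dual of an invertible module is any of its inverses. -/
theorem nonempty_iso_dual {L M : X.Modules} (hL : PicF.IsInvertible L)
    (θ : CohB1.tensorMod L M ≅ Coh.structureModule X) : Nonempty (M ≅ RefHull.dual L) :=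
  ⟨@asIso _ _ _ _ (toDual θ.hom) (isIso_toDual θ.hom hL)⟩

/-- Duals of invertible modules commute with inverse images. -/
theorem nonempty_dual_pullback {Y : Scheme.{u}} (f : Y ⟶ X) {L : X.Modules} (hL : PicF.IsInvertible L) :
    Nonempty (RefHull.dual ((Scheme.Modules.pullback f).obj L) ≅ (Scheme.Modules.pullback f).obj (RefHull.dual L)) := by
  obtain ⟨N, -, ⟨θ⟩⟩ := AmpleEmb.exists_isInverseOf hL
  obtain ⟨a⟩ := nonempty_iso_dual hL θ
  obtain ⟨b⟩ := nonempty_iso_dual (AmpleLib.isInvertible_pullback f hL)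
    ((AmpleLib.pullTensor f L N).symm ≪≫ (Scheme.Modules.pullback f).mapIso θ ≪≫ AmpleLib.pullO f)
  exact ⟨b.symm ≪≫ (Scheme.Modules.pullback f).mapIso a⟩

end Groth.Agent.DualInvLib
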